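import Groth.Agent.Lib.KoszulLim.Functorial
import Groth.Agent.Lib.Depth.Basic
import Mathlib.RingTheory.Ideal.AssociatedPrime.Finiteness

/-! # Depth sensitivity of the Koszul complex -/

set_option autoImplicit false
set_option linter.style.haveILetI false
universe u

open scoped Pointwise
open CategoryTheory CategoryTheory.Limits CohIII RingTheory.Sequence GrothLib.KoszulMod GrothLib.KoszulLim

namespace GrothLib.KoszulDepth16

variable {A : Type u} [CommRing A]

theorem kmap_smul_id (M : ModuleCat.{u} A) (x : A) : ∀ (fs : List A) (i : ℤ) (z : (koszulCx M fs).X i),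
    ((kmap (x • 𝟙 M) fs).f i).hom z = x • z := by
  intro fs
  induction fs with
  | nil =>
    intro i z
    by_cases h : i = 0
    · subst h
      change (((HomologicalComplex.single (ModuleCat.{u} A) (ComplexShape.up ℤ) 0).map (x • 𝟙 M)).f 0).hom z = _
      rw [HomologicalComplex.single_map_f_self]
      simp
      rfl
    · rw [eq_zero_out M [] i (by simp; omega) z, map_zero, smul_zero]
  | cons f fs ih =>
    intro i z
    refine cone_ext (koszulCx M fs) f i (i + 1) rfl ?_ ?_
    · erw [p₁_kmap, ih, map_smul]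
    · erw [p₂_kmap, ih, map_smul]

/-- An element of the ideal acts by zero on Koszul cohomology. -/
theorem homologyMap_kmap_smul_eq_zero (M : ModuleCat.{u} A) (fs : List A) (x : A)
    (hx : x ∈ Ideal.span {a | a ∈ fs}) (i : ℤ) :
    HomologicalComplex.homologyMap (kmap (x • 𝟙 M) fs) i = 0 := by
  obtain ⟨H⟩ := nonempty_homotopy_of_mem_span M fs x hx
  have he : kmap (x • 𝟙 M) fs = x • 𝟙 (koszulCx M fs) := by
    refine HomologicalComplex.hom_ext _ _ fun j => ModuleCat.hom_ext (LinearMap.ext fun z => ?_)
    exact kmap_smul_id M x fs j z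
  rw [he, H.homologyMap_eq i, HomologicalComplex.homologyMap_zero]

variable (M : Type u) [AddCommGroup M] [Module A M]

/-- The sequence `M → M → M/xM`. -/
noncomputable def seq (x : A) : ShortComplex (ModuleCat.{u} A) :=
  ShortComplex.mk (x • 𝟙 (ModuleCat.of A M)) (ModuleCat.ofHom (Submodule.mkQ (x • (⊤ : Submodule A M))))
    (ModuleCat.hom_ext (LinearMap.ext fun m => (Submodule.Quotient.mk_eq_zero _).2
      (Submodule.smul_mem_pointwise_smul m x ⊤ trivial)))

theorem seq_shortExact {x : A} (hx : IsSMulRegular M x) : (seq M x).ShortExact := by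
  refine { exact := ?_, mono_f := ?_, epi_g := ?_ }
  · rw [ShortComplex.moduleCat_exact_iff]
    intro m hm
    obtain ⟨y, -, hy⟩ := (Submodule.mem_smul_pointwise_iff_exists _ _ _).1
      ((Submodule.Quotient.mk_eq_zero _).1 hm)
    exact ⟨y, hy⟩
  · rw [ModuleCat.mono_iff_injective]
    exact fun a b h => hx h
  · rw [ModuleCat.epi_iff_surjective]
    exact Submodule.mkQ_surjective _

theorem eq_zero_of_isZero_source {K L : ModuleCat.{u} A} (hK : IsZero K) (φ : K ⟶ L) : φ = 0 :=
  hK.eq_of_src _ _

/-- Koszul cohomology vanishes below the length of a regular sequence in the ideal. -/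
theorem isZero_of_isWeaklyRegular (fs : List A) : ∀ (rs : List A) (M : Type u) [AddCommGroup M] [Module A M],
    (∀ x ∈ rs, x ∈ Ideal.span {a | a ∈ fs}) → IsWeaklyRegular M rs →
      ∀ i : ℤ, i + fs.length < rs.length → IsZero ((koszulCx (ModuleCat.of A M) fs).homology i) := by
  intro rs
  induction rs with
  | nil =>
    intro M _ _ _ _ i hi
    refine ShortComplex.isZero_homology_of_isZero_X₂ _ ?_
    exact isZero_out _ fs i (Or.inr (by simpa using hi))
  | cons x rs ih =>
    intro M _ _ hmem hreg i hi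
    rw [isWeaklyRegular_cons_iff] at hreg
    have hS := kShort_shortExact (seq_shortExact M hreg.1) fs
    have hprev := ih (QuotSMulTop x M) (fun y hy => hmem y (List.mem_cons_of_mem _ hy)) hreg.2 (i - 1)
      (by simp at hi ⊢; omega)
    have hex := hS.homology_exact₁ (i - 1) i (by simp)
    exact hex.isZero_X₂ (hprev.eq_of_src _ _)
      (homologyMap_kmap_smul_eq_zero (ModuleCat.of A M) fs x (hmem x (List.mem_cons_self)) i)

theorem not_isZero_bottom (fs : List A) (M : Type u) [AddCommGroup M] [Module A M] (z : M) (hz : z ≠ 0)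
    (hk : ∀ a ∈ Ideal.span {a | a ∈ fs}, a • z = 0) :
    ¬ IsZero ((koszulCx (ModuleCat.of A M) fs).homology (-(fs.length : ℤ))) := by
  intro hzero
  have he : fs.map (· ^ 1) = fs := by simp
  obtain ⟨y, hy⟩ := (bot_bijective (ModuleCat.of A M) 1 fs (deg fs 0) (by simp [deg])).2 z
  obtain ⟨c, hc⟩ := exists_cycles_lift (C := kp (ModuleCat.of A M) fs 1) (i := deg fs 0) (k := deg fs 0 + 1) rfl
    ((bot_cycle_iff (ModuleCat.of A M) 1 fs (deg fs 0) _ (by simp [deg]) rfl y).2 fun g hg => by
      rw [hy, pow_one]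
      exact hk g (Ideal.subset_span hg))
  have hzero' : IsZero ((kp (ModuleCat.of A M) fs 1).homology (deg fs 0)) := by
    have hd : deg fs 0 = -(fs.length : ℤ) := by simp [deg]
    rw [hd]
    show IsZero ((koszulCx (ModuleCat.of A M) (fs.map (· ^ 1))).homology _)
    rwa [he]
  haveI := ModuleCat.subsingleton_of_isZero hzero'
  have h0 : botH fs (ModuleCat.of A M) 1 (((kp (ModuleCat.of A M) fs 1).homologyπ (deg fs 0)).hom c) = 0 := by
    rw [Subsingleton.elim (α := (kp (ModuleCat.of A M) fs 1).homology (deg fs 0))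
      (((kp (ModuleCat.of A M) fs 1).homologyπ (deg fs 0)).hom c) 0]
    exact map_zero _
  rw [botH_π, hc, hy] at h0
  exact hz h0

/-- Koszul cohomology is nonzero at the length of a maximal regular sequence in the ideal. -/
theorem not_isZero_of_maximal (fs : List A) : ∀ (rs : List A) (M : Type u) [AddCommGroup M] [Module A M],
    (∀ x ∈ rs, x ∈ Ideal.span {a | a ∈ fs}) → IsWeaklyRegular M rs →
      (∃ z : M ⧸ (Ideal.ofList rs • (⊤ : Submodule A M)), z ≠ 0 ∧ ∀ a ∈ Ideal.span {a | a ∈ fs}, a • z = 0) →
        ¬ IsZero ((koszulCx (ModuleCat.of A M) fs).homology ((rs.length : ℤ) - fs.length)) := by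
  intro rs
  induction rs with
  | nil =>
    intro M _ _ _ _ hz
    obtain ⟨z, hz0, hk⟩ := hz
    obtain ⟨y, rfl⟩ := Submodule.Quotient.mk_surjective _ z
    simp only [List.length_nil, Nat.cast_zero, zero_sub]
    refine not_isZero_bottom fs M y (fun h => hz0 (by rw [h]; rfl)) fun a ha => ?_
    have h := hk a ha
    rw [← Submodule.Quotient.mk_smul, Submodule.Quotient.mk_eq_zero, Ideal.ofList_nil, Submodule.bot_smul,
      Submodule.mem_bot] at h
    exact h
  | cons x rs ih =>
    intro M _ _ hmem hreg hz hzero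
    obtain ⟨z, hz0, hk⟩ := hz
    rw [isWeaklyRegular_cons_iff] at hreg
    let e := Submodule.quotOfListConsSMulTopEquivQuotSMulTopInner M x rs
    have hS := kShort_shortExact (seq_shortExact M hreg.1) fs
    set i : ℤ := (((x :: rs).length : ℕ) : ℤ) - fs.length with hi
    have hlow : IsZero ((koszulCx (ModuleCat.of A M) fs).homology (i - 1)) :=
      isZero_of_isWeaklyRegular fs (x :: rs) M hmem ((isWeaklyRegular_cons_iff M x rs).2 hreg) (i - 1)
        (by rw [hi]; simp; omega)
    refine ih (QuotSMulTop x M) (fun y hy => hmem y (List.mem_cons_of_mem _ hy)) hreg.2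
      ⟨e z, fun h => hz0 (e.map_eq_zero_iff.1 h), fun a ha => by rw [← map_smul, hk a ha, map_zero]⟩ ?_
    rw [show (rs.length : ℤ) - fs.length = i - 1 by rw [hi]; simp; ring]
    exact (hS.homology_exact₃ (i - 1) i (by simp)).isZero_X₂ (hlow.eq_of_src _ _) (hzero.eq_of_tgt _ _)

end GrothLib.KoszulDepth16
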